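import Mathlib.AlgebraicGeometry.Restrict
import Mathlib.CategoryTheory.Comma.Over.Pullback
import Mathlib.AlgebraicGeometry.Limits

/-!
Morphisms between restrictions of `S`-schemes to opens.
-/

universe u

namespace Groth.Agent.Neron6

open CategoryTheory Limits AlgebraicGeometry

variable {S T : Scheme.{u}} (i : T ⟶ S) {Z N : Over S}

theorem pullback_map_fst (g : Z ⟶ N) :
    ((Over.pullback i).map g).left ≫ pullback.fst N.hom i = pullback.fst Z.hom i ≫ g.left := by
  exact pullback.lift_fst _ _ _

theorem pullback_hom_ext {W : Over T} (g g' : W ⟶ (Over.pullback i).obj N)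
    (h : g.left ≫ pullback.fst N.hom i = g'.left ≫ pullback.fst N.hom i) : g = g' := by
  ext
  refine pullback.hom_ext h ?_
  exact (Over.w g).trans (Over.w g').symm

theorem pullback_map_eq_iff (g g' : Z ⟶ N) :
    (Over.pullback i).map g = (Over.pullback i).map g' ↔
      pullback.fst Z.hom i ≫ g.left = pullback.fst Z.hom i ≫ g'.left := by
  refine ⟨fun h => ?_, fun h => pullback_hom_ext i _ _ ?_⟩
  · rw [← pullback_map_fst, h, pullback_map_fst]
  · rw [pullback_map_fst, pullback_map_fst, h]

theorem pullback_map_eq_of_fac {U : Scheme.{u}} (j : U ⟶ T) (k : U ⟶ S) (hk : j ≫ i = k)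
    (g g' : Z ⟶ N) (h : (Over.pullback i).map g = (Over.pullback i).map g') :
    (Over.pullback k).map g = (Over.pullback k).map g' := by
  subst hk
  rw [pullback_map_eq_iff] at h ⊢
  have e : pullback.fst Z.hom (j ≫ i) =
      pullback.lift (pullback.fst Z.hom (j ≫ i)) (pullback.snd Z.hom (j ≫ i) ≫ j)
        (by rw [pullback.condition, Category.assoc]) ≫ pullback.fst Z.hom i :=
    (pullback.lift_fst _ _ _).symm
  rw [e]
  exact (Category.assoc _ _ _).trans ((congrArg (_ ≫ ·) h).trans (Category.assoc _ _ _).symm)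

/-- Iterated restriction maps into the direct restriction. -/
noncomputable def toDirect (Z : Over S) {U T₀ : Scheme.{u}} (j : U ⟶ T) (k : U ⟶ T₀) (i₀ : T₀ ⟶ S)
    (hk : j ≫ i = k ≫ i₀) :
    pullback ((Over.pullback i).obj Z).hom j ⟶ pullback Z.hom i₀ :=
  pullback.lift (pullback.fst _ j ≫ pullback.fst Z.hom i) (pullback.snd _ j ≫ k)
    ((Category.assoc _ _ _).trans ((congrArg (_ ≫ ·) pullback.condition).trans
      ((Category.assoc _ _ _).symm.trans
        ((congrArg (· ≫ i) (pullback.condition : pullback.fst ((Over.pullback i).obj Z).hom j ≫ _ = _)).trans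
          ((Category.assoc _ _ _).trans ((congrArg (_ ≫ ·) hk).trans (Category.assoc _ _ _).symm))))))

theorem toDirect_fst (Z : Over S) {U T₀ : Scheme.{u}} (j : U ⟶ T) (k : U ⟶ T₀) (i₀ : T₀ ⟶ S)
    (hk : j ≫ i = k ≫ i₀) :
    toDirect i Z j k i₀ hk ≫ pullback.fst Z.hom i₀ = pullback.fst _ j ≫ pullback.fst Z.hom i :=
  pullback.lift_fst _ _ _

/-- Agreement on the smaller open implies agreement of the iterated restrictions. -/
theorem map_map_eq_of_direct {U T₀ : Scheme.{u}} (j : U ⟶ T) (k : U ⟶ T₀) (i₀ : T₀ ⟶ S)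
    (hk : j ≫ i = k ≫ i₀) (g g' : Z ⟶ N) (h : (Over.pullback i₀).map g = (Over.pullback i₀).map g') :
    (Over.pullback j).map ((Over.pullback i).map g) =
      (Over.pullback j).map ((Over.pullback i).map g') := by
  rw [pullback_map_eq_iff] at h
  refine pullback_hom_ext _ _ _ ?_
  rw [pullback_map_fst, pullback_map_fst]
  refine pullback.hom_ext ?_ ?_
  · have e : ∀ f : Z ⟶ N, (pullback.fst _ j ≫ ((Over.pullback i).map f).left) ≫ pullback.fst N.hom i =
        toDirect i Z j k i₀ hk ≫ pullback.fst Z.hom i₀ ≫ f.left := fun f =>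
      (Category.assoc _ _ _).trans ((congrArg (_ ≫ ·) (pullback_map_fst i f)).trans
        ((Category.assoc _ _ _).symm.trans ((congrArg (· ≫ f.left) (toDirect_fst i Z j k i₀ hk).symm).trans
          (Category.assoc _ _ _))))
    rw [e, e, h]
  · exact (Category.assoc _ _ _).trans ((congrArg (_ ≫ ·)
      ((Over.w ((Over.pullback i).map g)).trans (Over.w ((Over.pullback i).map g')).symm)).trans
        (Category.assoc _ _ _).symm)

end Groth.Agent.Neron6
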