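import Groth.Agent.PurBir.Stalk
import Groth.Agent.S4809
import Groth.Agent.S2260
import Groth.Agent.S3844
import Groth.Agent.S4989
import Groth.Agent.Neron6.Over
import Groth.Prelude.Def_Pi1
import Groth.Prelude.Def_CInt

/-!
# Birational quasi-finite separated morphisms to normal schemes
-/

set_option autoImplicit false
set_option linter.style.haveILetI false

universe u

open CategoryTheory CategoryTheory.Limits AlgebraicGeometry TopologicalSpace

namespace Groth.Agent.Neron6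

theorem dense_of_isSchematicallyDense {X : Scheme.{u}} {U : X.Opens} (hU : CInt.IsSchematicallyDense U) :
    Dense (U : Set X) := by
  refine dense_iff_inter_open.2 fun V hV ⟨x, hx⟩ => ?_
  by_contra hne
  rw [Set.not_nonempty_iff_eq_empty] at hne
  have hbot : (⟨V, hV⟩ : X.Opens) ⊓ U = ⊥ := Opens.ext hne
  haveI : Subsingleton Γ(X, (⟨V, hV⟩ : X.Opens) ⊓ U) :=
    CommRingCat.subsingleton_of_isTerminal (X.sheaf.isTerminalOfEqEmpty hbot)
  haveI : Subsingleton Γ(X, (⟨V, hV⟩ : X.Opens)) := (hU ⟨V, hV⟩).subsingleton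
  exact not_subsingleton (X.presheaf.stalk x)
    ((X.presheaf.germ ⟨V, hV⟩ x hx).hom.codomain_trivial)

theorem isNormalScheme_of_smooth {X Y : Scheme.{u}} (f : X ⟶ Y) [Smooth f] (hY : Pi1.IsNormalScheme Y) :
    Pi1.IsNormalScheme X := fun x =>
  (S4989.result f x (by rw [Scheme.Hom.smoothLocus_eq_top]; trivial)).2.2 (hY (f x))

theorem isOpenImmersion_of_dense_iso {M N : Scheme.{u}} [IsLocallyNoetherian N] (hM : Pi1.IsNormalScheme M)
    (hN : Pi1.IsNormalScheme N) (f : M ⟶ N) [IsSeparated f] [QuasiCompact f] [LocallyQuasiFinite f]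
    [LocallyOfFiniteType f] (W : N.Opens) [IsOpenImmersion ((f ⁻¹ᵁ W).ι ≫ f)]
    (hd : Dense ((f ⁻¹ᵁ W : M.Opens) : Set M)) : IsOpenImmersion f := by
  choose C hC hCi using fun y : N => by
    haveI := (hN y).1
    exact S2260.result N y
  refine IsZariskiLocalAtTarget.of_iSup_eq_top (P := @IsOpenImmersion) C
    (top_le_iff.1 fun y _ => Opens.mem_iSup.2 ⟨y, hC y⟩) fun y => ?_
  haveI := hCi y
  let MC : M.Opens := f ⁻¹ᵁ C y
  by_cases hne : IsEmpty (MC : Scheme.{u})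
  · infer_instance
  rw [not_isEmpty_iff] at hne
  haveI : IsReduced (MC : Scheme.{u}) := by
    haveI : ∀ z : (MC : Scheme.{u}), _root_.IsReduced ((MC : Scheme.{u}).presheaf.stalk z) := fun z => by
      haveI := (hM (MC.ι z)).1
      exact isReduced_of_injective (asIso (MC.ι.stalkMap z)).inv.hom
        (ConcreteCategory.bijective_of_isIso (asIso (MC.ι.stalkMap z)).inv).1
    exact isReduced_of_isReduced_stalk _
  have hpre : IsPreirreducible (MC : Set M) := by
    have hCp : IsPreirreducible ((C y : N.Opens) : Set N) := by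
      have h1 : IsPreirreducible (Set.univ : Set (C y : Scheme.{u})) := PreirreducibleSpace.isPreirreducible_univ
      have h2 := h1.image (C y).ι ((C y).ι.continuous.continuousOn)
      rwa [Set.image_univ, Scheme.Opens.range_ι] at h2
    let g := (f ⁻¹ᵁ W).ι ≫ f
    have h3 : IsPreirreducible (g ⁻¹' ((C y : N.Opens) : Set N)) := hCp.preimage g.isOpenEmbedding
    have h4 := (h3.image (f ⁻¹ᵁ W).ι ((f ⁻¹ᵁ W).ι.continuous.continuousOn)).closure
    intro u v hu hv hu' hv'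
    obtain ⟨a, haM, hau⟩ := hu'
    obtain ⟨c, hcM, hcv⟩ := hv'
    obtain ⟨a', ⟨haM', hau'⟩, haW⟩ := hd.inter_open_nonempty _ (MC.isOpen.inter hu) ⟨a, haM, hau⟩
    obtain ⟨c', ⟨hcM', hcv'⟩, hcW⟩ := hd.inter_open_nonempty _ (MC.isOpen.inter hv) ⟨c, hcM, hcv⟩
    obtain ⟨z, hz, hzuv⟩ := (h3.image (f ⁻¹ᵁ W).ι ((f ⁻¹ᵁ W).ι.continuous.continuousOn)) u v hu hv
      ⟨a', ⟨⟨a', haW⟩, haM', rfl⟩, hau'⟩ ⟨c', ⟨⟨c', hcW⟩, hcM', rfl⟩, hcv'⟩
    obtain ⟨z, hzC, rfl⟩ := hz
    exact ⟨_, hzC, hzuv⟩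
  haveI : IrreducibleSpace (MC : Scheme.{u}) :=
    Subtype.irreducibleSpace ⟨Set.nonempty_coe_sort.1 hne, hpre⟩
  haveI : IsIntegral (MC : Scheme.{u}) := isIntegral_of_irreducibleSpace_of_isReduced _
  let h := f ∣_ C y
  let V : (MC : Scheme.{u}).Opens := MC.ι ⁻¹ᵁ (f ⁻¹ᵁ W)
  have hVne : (V : Set (MC : Scheme.{u})).Nonempty := by
    obtain ⟨⟨z, hz⟩⟩ := hne
    obtain ⟨z', hz', hzW⟩ := hd.inter_open_nonempty _ MC.isOpen ⟨z, hz⟩
    exact ⟨⟨z', hz'⟩, hzW⟩
  haveI : IsOpenImmersion (V.ι ≫ h ≫ (C y).ι) := by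
    rw [morphismRestrict_ι, ← morphismRestrict_ι_assoc MC.ι (f ⁻¹ᵁ W)]
    infer_instance
  haveI : IsOpenImmersion (V.ι ≫ h) := by
    have : IsOpenImmersion ((V.ι ≫ h) ≫ (C y).ι) := by rw [Category.assoc]; infer_instance
    exact IsOpenImmersion.of_comp (V.ι ≫ h) (C y).ι
  have hgen := PurBir.map_genericPoint h hVne
  have hbir := PurBir.isIso_stalkMap_of_mem h (PurBir.genericPoint_mem hVne)
  have hNC : ∀ z : (C y : Scheme.{u}), IsIntegrallyClosed ((C y : Scheme.{u}).presheaf.stalk z) := fun z => by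
    haveI := (hN ((C y).ι z)).1
    haveI := (hN ((C y).ι z)).2
    exact IsIntegrallyClosed.of_equiv (asIso ((C y).ι.stalkMap z)).commRingCatIsoToRingEquiv
  haveI : LocallyQuasiFinite h := IsZariskiLocalAtTarget.restrict ‹_› (C y)
  exact (S4809.result hNC h hgen hbir).2 inferInstance

end Groth.Agent.Neron6
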