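import Groth.Agent.Neron6.FiniteExt
import Groth.Agent.Triage.NormInX
import Groth.Agent.S9821
import Groth.Agent.SGA1Q.SigmaFinite
import Mathlib.FieldTheory.Perfect
import Mathlib.AlgebraicGeometry.ZariskisMainTheorem

/-!
# Finite normal compactification of separated quasi-compact étale schemes over a normal base
-/

set_option autoImplicit false
set_option linter.style.haveILetI false
set_option backward.isDefEq.respectTransparency false
set_option backward.isDefEq.respectTransparency.types false

universe u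

open CategoryTheory CategoryTheory.Limits AlgebraicGeometry TopologicalSpace
open scoped Function

namespace Groth.Agent.Neron6

variable {k : Type u} [Field k] [CharZero k] {S : Scheme.{u}} (σ : S ⟶ Spec (CommRingCat.of k))

include σ in
theorem charZero_stalk (s : S) : CharZero (S.presheaf.stalk s) :=
  charZero_of_injective_ringHom
    ((((Scheme.ΓSpecIso (CommRingCat.of k)).inv ≫ σ.appTop ≫ S.presheaf.germ ⊤ s trivial).hom : k →+* _).injective)

include σ in
theorem isFinite_fromNormalization {X : Scheme.{u}} [IsIntegral X] [IsIntegral S] [IsLocallyNoetherian S]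
    (hS : Pi1.IsNormalScheme S) (hX : Pi1.IsNormalScheme X) (f : X ⟶ S) [IsDominant f]
    [LocallyQuasiFinite f] [LocallyOfFiniteType f] [QuasiCompact f] [QuasiSeparated f] :
    IsFinite f.fromNormalization := by
  refine ⟨fun U hU => ?_⟩
  rcases (U : Set S).eq_empty_or_nonempty with he | ⟨x, hx⟩
  · have e : U = ⊥ := TopologicalSpace.Opens.ext he
    subst e
    haveI : Subsingleton Γ(f.normalization, f.fromNormalization ⁻¹ᵁ ⊥) := by
      rw [Scheme.Hom.preimage_bot]; infer_instance
    exact RingHom.Finite.of_surjective _ fun z => ⟨0, Subsingleton.elim _ _⟩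
  haveI : Nonempty U := ⟨⟨x, hx⟩⟩
  have hfη : f (genericPoint X) = genericPoint S :=
    (((genericPoint_spec X).image f.continuous).eq (by
      simpa [Set.image_univ, f.denseRange.closure_range] using genericPoint_spec S))
  have hξ : genericPoint X ∈ f ⁻¹ᵁ U := by
    show f (genericPoint X) ∈ U
    rw [hfη]; exact (genericPoint_specializes x).mem_open U.isOpen hx
  obtain ⟨hinj, hrange, hbase⟩ := Triage.NormInX.ev_spec f (fun z => (hX z).2) hU hξ
  have hK : ∀ z : S, ∀ hz : z ∈ U, z = genericPoint S →
      IsField (S.presheaf.stalk z) ∧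
        letI := (S.presheaf.germ U z hz).hom.toAlgebra
        IsFractionRing Γ(S, U) (S.presheaf.stalk z) := by
    rintro z hz rfl
    exact ⟨Field.toIsField S.functionField, functionField_isFractionRing_of_isAffineOpen S U hU⟩
  obtain ⟨hF, hfrac⟩ := hK (f (genericPoint X)) hξ hfη
  haveI : CharZero (S.presheaf.stalk (f (genericPoint X))) := charZero_stalk σ _
  letI := hF.toField
  letI aF : Algebra (S.presheaf.stalk (f (genericPoint X))) X.functionField :=
    (f.stalkMap (genericPoint X)).hom.toAlgebra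
  letI := (S.presheaf.germ U (f (genericPoint X)) hξ).hom.toAlgebra
  letI : Algebra Γ(S, U) X.functionField :=
    ((X.presheaf.germ (f ⁻¹ᵁ U) (genericPoint X) hξ).hom.comp (f.app U).hom).toAlgebra
  haveI : IsScalarTower Γ(S, U) (S.presheaf.stalk (f (genericPoint X))) X.functionField :=
    IsScalarTower.of_algebraMap_eq fun a => (Scheme.Hom.germ_stalkMap_apply f U (genericPoint X) hξ a).symm
  haveI : Algebra.QuasiFinite (S.presheaf.stalk (f (genericPoint X))) X.functionField :=
    f.quasiFiniteAt (genericPoint X)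
  haveI : Module.Finite (S.presheaf.stalk (f (genericPoint X))) X.functionField := .of_quasiFinite
  haveI : IsNoetherianRing Γ(S, U) := IsLocallyNoetherian.component_noetherian ⟨U, hU⟩
  haveI : IsIntegrallyClosed Γ(S, U) := (S9821.result S).1 hS U hU
  haveI : Module.Finite Γ(S, U) (integralClosure Γ(S, U) X.functionField) :=
    IsIntegralClosure.finite Γ(S, U) (S.presheaf.stalk (f (genericPoint X))) X.functionField _
  let e : Γ(f.normalization, f.fromNormalization ⁻¹ᵁ U) ≃+* integralClosure Γ(S, U) X.functionField :=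
    RingEquiv.ofBijective
      ((Triage.NormInX.ev f hξ).codRestrict (integralClosure Γ(S, U) X.functionField).toSubring
        fun c => (hrange _).1 ⟨c, rfl⟩)
      ⟨fun a b h => hinj (congrArg Subtype.val h), fun y => by
        obtain ⟨c, hc⟩ := (hrange y.1).2 y.2
        exact ⟨c, Subtype.ext hc⟩⟩
  have h2 : (f.fromNormalization.app U).hom =
      e.symm.toRingHom.comp (algebraMap Γ(S, U) (integralClosure Γ(S, U) X.functionField)) :=
    RingHom.ext fun a => by
      show _ = e.symm _
      rw [RingEquiv.eq_symm_apply]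
      exact Subtype.ext (hbase a)
  show (f.fromNormalization.app U).hom.Finite
  rw [h2]
  exact (RingHom.Finite.of_surjective _ e.symm.surjective).comp (RingHom.finite_algebraMap.2 inferInstance)

include σ in
theorem exists_compactification_integral [IsLocallyNoetherian S] (hS : Pi1.IsNormalScheme S) {X : Scheme.{u}}
    [IsIntegral X] (f : X ⟶ S) [Etale f] [IsSeparated f] [QuasiCompact f] :
    ∃ (T : Scheme.{u}) (π : T ⟶ S) (j : X ⟶ T), IsFinite π ∧ Pi1.IsNormalScheme T ∧ IsOpenImmersion j ∧
      j ≫ π = f := by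
  have hX : Pi1.IsNormalScheme X := isNormalScheme_of_smooth f hS
  haveI : ∀ x : S, _root_.IsReduced (S.presheaf.stalk x) := fun x => by haveI := (hS x).1; infer_instance
  haveI : IsReduced S := isReduced_of_isReduced_stalk _
  let S' : S.Opens := ⟨closure (Set.range f), isOpen_closure_of_normal hS f.isOpenMap.isOpen_range⟩
  haveI : IsClosedImmersion S'.ι := IsClosedImmersion.of_isPreimmersion S'.ι (by
    rw [Scheme.Opens.range_ι]; exact isClosed_closure)
  haveI : IrreducibleSpace (S' : Scheme.{u}) := by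
    have h : IsIrreducible ((S' : S.Opens) : Set S) := by
      have h1 := ((PreirreducibleSpace.isPreirreducible_univ (X := X)).image f f.continuous.continuousOn)
      rw [Set.image_univ] at h1
      exact IsIrreducible.closure (⟨Set.range_nonempty _, h1⟩ : IsIrreducible (Set.range f))
    exact Subtype.irreducibleSpace h
  haveI : IsIntegral (S' : Scheme.{u}) := isIntegral_of_irreducibleSpace_of_isReduced _
  let f' : X ⟶ S' := IsOpenImmersion.lift S'.ι f (by rw [Scheme.Opens.range_ι]; exact subset_closure)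
  have hf : f' ≫ S'.ι = f := IsOpenImmersion.lift_fac _ _ _
  haveI : Etale f' := by
    haveI : Etale (f' ≫ S'.ι) := by rw [hf]; infer_instance
    exact Etale.of_comp f' S'.ι
  haveI : QuasiCompact f' := by
    haveI : QuasiCompact (f' ≫ S'.ι) := by rw [hf]; infer_instance
    exact QuasiCompact.of_comp f' S'.ι
  haveI : IsSeparated f' := by
    haveI : IsSeparated (f' ≫ S'.ι) := by rw [hf]; infer_instance
    exact IsSeparated.of_comp f' S'.ι
  haveI : LocallyQuasiFinite f' := ((S4997.result f').1 inferInstance).2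
  haveI : IsDominant f' := ⟨fun x => by
    have hr : Set.range f' = S'.ι ⁻¹' Set.range f := by
      rw [← hf]
      ext y
      exact ⟨fun ⟨z, hz⟩ => ⟨z, congrArg S'.ι hz⟩, fun ⟨z, hz⟩ => ⟨z, S'.ι.isOpenEmbedding.injective hz⟩⟩
    show x ∈ closure (Set.range f')
    rw [hr, ← S'.ι.isOpenEmbedding.isOpenMap.preimage_closure_eq_closure_preimage S'.ι.continuous]
    exact x.2⟩
  have hS' : Pi1.IsNormalScheme (S' : Scheme.{u}) := isNormalScheme_of_smooth S'.ι hS
  haveI : IsFinite f'.fromNormalization := isFinite_fromNormalization (S'.ι ≫ σ) hS' hX f'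
  refine ⟨f'.normalization, f'.fromNormalization ≫ S'.ι, f'.toNormalization, inferInstance,
    fun x => ⟨inferInstance, Triage.NormInX.isIntegrallyClosed_stalk f' (fun z => (hX z).2) x⟩,
    inferInstance, ?_⟩
  rw [f'.toNormalization_fromNormalization_assoc, hf]

theorem exists_clopen_cover_integral {X : Scheme.{u}} [IsNoetherian X] (hX : Pi1.IsNormalScheme X) :
    ∃ (ι : Type u) (_ : Finite ι) (C : ι → X.Opens), (∀ i, IsIntegral (C i : Scheme.{u})) ∧
      (∀ i, IsClosed (C i : Set X)) ∧ Pairwise (Disjoint on C) ∧ ∀ x, ∃ i, x ∈ C i := by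
  haveI : ∀ x : X, _root_.IsReduced (X.presheaf.stalk x) := fun x => by haveI := (hX x).1; infer_instance
  haveI : IsReduced X := isReduced_of_isReduced_stalk _
  have key : ∀ Z ∈ irreducibleComponents X, ∀ x ∈ Z, ∃ U : X.Opens, x ∈ U ∧ (U : Set X) ⊆ Z ∧
      Z ⊆ closure (U : Set X) ∧ ∀ Z' ∈ irreducibleComponents X, x ∈ Z' → Z' = Z := by
    intro Z hZ x hx
    haveI := (hX x).1
    obtain ⟨U, hxU, hU⟩ := S2260.result X x
    have hUp : IsPreirreducible ((U : X.Opens) : Set X) := by
      have h1 : IsPreirreducible (Set.univ : Set (U : Scheme.{u})) := PreirreducibleSpace.isPreirreducible_univ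
      have h2 := h1.image U.ι (U.ι.continuous.continuousOn)
      rwa [Set.image_univ, Scheme.Opens.range_ι] at h2
    have hUi : IsIrreducible (closure (U : Set X)) := IsIrreducible.closure ⟨⟨x, hxU⟩, hUp⟩
    have main : ∀ Z' ∈ irreducibleComponents X, x ∈ Z' → closure (U : Set X) = Z' := by
      intro Z' hZ' hxZ'
      have h1 : Z' ⊆ closure (U : Set X) :=
        (subset_closure_inter_of_isPreirreducible_of_isOpen hZ'.1.2 U.isOpen ⟨x, hxZ', hxU⟩).trans
          (closure_mono Set.inter_subset_right)
      exact subset_antisymm (hZ'.2 hUi h1) h1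
    refine ⟨U, hxU, ?_, (main Z hZ hx).ge, fun Z' hZ' hxZ' => (main Z' hZ' hxZ').symm.trans (main Z hZ hx)⟩
    exact subset_closure.trans (main Z hZ hx).le
  haveI : Finite (irreducibleComponents X) :=
    (TopologicalSpace.NoetherianSpace.finite_irreducibleComponents (α := X)).to_subtype
  let C : irreducibleComponents X → X.Opens := fun Z => ⟨Z.1, isOpen_iff_forall_mem_open.2 fun x hx => by
    obtain ⟨U, hxU, hUZ, -, -⟩ := key Z.1 Z.2 x hx
    exact ⟨U, hUZ, U.isOpen, hxU⟩⟩
  refine ⟨irreducibleComponents X, inferInstance, C, fun Z => ?_, fun Z => ?_, fun Z Z' hne => ?_, fun x => ?_⟩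
  · haveI : IrreducibleSpace (C Z : Scheme.{u}) := Subtype.irreducibleSpace Z.2.1
    exact isIntegral_of_irreducibleSpace_of_isReduced _
  · exact isClosed_of_mem_irreducibleComponents _ Z.2
  · refine disjoint_iff.2 (Opens.ext (Set.eq_empty_iff_forall_notMem.2 fun x hx => hne ?_))
    obtain ⟨_, -, -, -, h⟩ := key Z'.1 Z'.2 x hx.2
    exact Subtype.ext (h Z.1 Z.2 hx.1)
  · exact ⟨⟨irreducibleComponent x, irreducibleComponent_mem_irreducibleComponents x⟩, mem_irreducibleComponent⟩

include σ in
theorem exists_compactification [IsNoetherian S] (hS : Pi1.IsNormalScheme S) {X : Scheme.{u}}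
    (f : X ⟶ S) [Etale f] [IsSeparated f] [QuasiCompact f] :
    ∃ (T : Scheme.{u}) (π : T ⟶ S) (j : X ⟶ T), IsFinite π ∧ Pi1.IsNormalScheme T ∧ IsOpenImmersion j ∧
      j ≫ π = f := by
  haveI : IsLocallyNoetherian X := LocallyOfFiniteType.isLocallyNoetherian f
  haveI : CompactSpace X := QuasiCompact.compactSpace_of_compactSpace f
  haveI : IsNoetherian X := {}
  obtain ⟨ι, hι, C, hCi, hCc, hCd, hCx⟩ := exists_clopen_cover_integral (isNormalScheme_of_smooth f hS)
  haveI := hCi
  haveI : ∀ i, IsClosedImmersion (C i).ι := fun i => IsClosedImmersion.of_isPreimmersion _ (by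
    rw [Scheme.Opens.range_ι]; exact hCc i)
  choose T π j hπ hT hj hjπ using fun i => exists_compactification_integral σ hS ((C i).ι ≫ f)
  let d : ∐ (fun i => (C i : Scheme.{u})) ⟶ X := Sigma.desc fun i => (C i).ι
  haveI : IsOpenImmersion d := isOpenImmersion_sigmaDesc _ _ fun a b hab => by
    simp only [Function.onFun, Scheme.Opens.range_ι]
    exact Set.disjoint_left.2 fun x ha hb =>
      Set.notMem_empty x ((congrArg SetLike.coe (disjoint_iff.1 (hCd hab))).le ⟨ha, hb⟩)
  haveI : Surjective d := Surjective.sigmaDesc_of_union_range_eq_univ (Set.eq_univ_of_forall fun x => by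
    obtain ⟨i, hi⟩ := hCx x
    exact Set.mem_iUnion.2 ⟨i, by rw [Scheme.Opens.range_ι]; exact hi⟩)
  haveI : IsIso d := (isIso_iff_isOpenImmersion_and_surjective d).2 ⟨inferInstance, inferInstance⟩
  let jj : ∐ (fun i => (C i : Scheme.{u})) ⟶ ∐ T := Sigma.desc fun i => j i ≫ Sigma.ι T i
  haveI : IsOpenImmersion jj := by
    haveI := hj
    refine isOpenImmersion_sigmaDesc _ _ fun a b hab => ?_
    refine Set.disjoint_left.2 fun x ha hb => ?_
    obtain ⟨za, rfl⟩ := ha
    obtain ⟨zb, hzb⟩ := hb
    have hmem : Sigma.ι T a (j a za) ∈ (Sigma.ι T a).opensRange ⊓ (Sigma.ι T b).opensRange :=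
      ⟨⟨j a za, rfl⟩, ⟨j b zb, hzb⟩⟩
    rw [disjoint_iff.1 (disjoint_opensRange_sigmaι T a b hab)] at hmem
    exact hmem
  refine ⟨∐ T, Sigma.desc π, inv d ≫ jj, SGA1Q.isFinite_sigmaDesc π hπ, fun x => ?_, inferInstance, ?_⟩
  · obtain ⟨⟨i, y⟩, rfl⟩ := (sigmaMk T).surjective x
    rw [sigmaMk_mk]
    haveI := (hT i y).1
    haveI := (hT i y).2
    let e := (asIso ((Sigma.ι T i).stalkMap y)).commRingCatIsoToRingEquiv
    exact ⟨e.toMulEquiv.isDomain _, IsIntegrallyClosed.of_equiv e.symm⟩
  · rw [Category.assoc, IsIso.inv_comp_eq]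
    refine Sigma.hom_ext _ _ fun i => ?_
    simp [jj, d, hjπ]

end Groth.Agent.Neron6
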