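import Groth.Prelude.Def_CInt
import Mathlib.AlgebraicGeometry.Morphisms.ClosedImmersion

/-!
# Closed subschemes containing a schematically dense open
-/

set_option autoImplicit false
set_option linter.style.haveILetI false

universe u

open CategoryTheory CategoryTheory.Limits AlgebraicGeometry TopologicalSpace

namespace Groth.Agent.Neron6

theorem app_injective_of_isSchematicallyDense {E Z : Scheme.{u}} (e : E ⟶ Z) (W : Z.Opens)
    (hW : CInt.IsSchematicallyDense W) (l : (W : Scheme.{u}) ⟶ E) (hl : l ≫ e = W.ι) (U : Z.Opens) :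
    Function.Injective (e.app U).hom := by
  have h1 : Function.Injective ((l ≫ e).app U).hom := by
    rw [hl, Scheme.Opens.ι_app]
    have key : ∀ V : Z.Opens, ∀ hV : V = U ⊓ W, ∀ i : V ⟶ U, Function.Injective (Z.presheaf.map i.op).hom := by
      rintro V rfl i
      exact hW U
    exact key _ (by
      ext x
      refine ⟨?_, fun hx => ⟨⟨x, hx.2⟩, hx.1, rfl⟩⟩
      rintro ⟨y, hy, rfl⟩
      exact ⟨hy, y.2⟩) _
  intro a b hab
  apply h1
  have h2 := ConcreteCategory.congr_hom (Scheme.Hom.comp_app l e U)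
  exact ((h2 a).trans (congrArg (l.app (e ⁻¹ᵁ U)) hab)).trans (h2 b).symm

theorem isIso_of_isSchematicallyDense {E Z : Scheme.{u}} (e : E ⟶ Z) [IsClosedImmersion e] [Surjective e]
    (W : Z.Opens) (hW : CInt.IsSchematicallyDense W) (l : (W : Scheme.{u}) ⟶ E) (hl : l ≫ e = W.ι) :
    IsIso e := by
  have hb : Function.Bijective e.base := ⟨e.isClosedEmbedding.injective, e.surjective⟩
  haveI : IsIso e.base := by
    have h : IsHomeomorph e.base :=
      isHomeomorph_iff_continuous_isClosedMap_bijective.2 ⟨e.continuous, e.isClosedEmbedding.isClosedMap, hb⟩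
    exact (TopCat.isIso_iff_isHomeomorph _).2 h
  rw [isIso_iff_isIso_stalkMap]
  refine ⟨inferInstance, fun y => (ConcreteCategory.isIso_iff_bijective _).2 ⟨?_, e.stalkMap_surjective y⟩⟩
  rw [injective_iff_map_eq_zero]
  intro t ht
  obtain ⟨U, hyU, s, rfl⟩ := Z.presheaf.exists_germ_eq (x := e y) t
  rw [Scheme.Hom.germ_stalkMap_apply] at ht
  obtain ⟨W', hyW', i₁, i₂, hW'⟩ := E.presheaf.germ_eq (U := e ⁻¹ᵁ U) (V := e ⁻¹ᵁ U) y hyU hyU (e.app U s) 0 (ht.trans (map_zero _).symm)
  obtain ⟨O, hO, hOW⟩ := e.isClosedEmbedding.isEmbedding.isInducing.isOpen_iff.1 W'.isOpen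
  let V : Z.Opens := U ⊓ ⟨O, hO⟩
  have hyV : e y ∈ V := ⟨hyU, show y ∈ e ⁻¹' O by rw [hOW]; exact hyW'⟩
  have hVW : e ⁻¹ᵁ V ≤ W' := fun x hx => by
    have h2 : x ∈ e ⁻¹' O := hx.2
    rw [hOW] at h2
    exact h2
  have hs : Z.presheaf.map (homOfLE (inf_le_left : V ≤ U)).op s = 0 := by
    apply app_injective_of_isSchematicallyDense e W hW l hl V
    rw [map_zero]
    have h3 := ConcreteCategory.congr_hom (e.naturality (homOfLE (inf_le_left : V ≤ U)).op) s
    refine h3.trans ?_
    have h4 := congrArg (E.presheaf.map (homOfLE hVW).op).hom hW'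
    rw [map_zero, map_zero, ← CommRingCat.comp_apply, ← Functor.map_comp] at h4
    exact h4
  rw [← Z.presheaf.germ_res_apply (homOfLE (inf_le_left : V ≤ U)) (e y) hyV s, hs, map_zero]

end Groth.Agent.Neron6
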