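import Mathlib.RingTheory.Etale.Locus
import Mathlib.RingTheory.Etale.Kaehler
import Mathlib.RingTheory.Kaehler.JacobiZariski
import Mathlib.RingTheory.Smooth.Kaehler
import Mathlib.RingTheory.Ideal.KrullsHeightTheorem
import Mathlib.RingTheory.LocalRing.Module
import Mathlib.LinearAlgebra.Matrix.InvariantBasisNumber
import Mathlib.LinearAlgebra.Matrix.ToLin
import Mathlib.LinearAlgebra.Determinant

/-!
# The non-étale locus between smooth algebras has pure codimension one
-/

set_option autoImplicit false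
set_option linter.style.haveILetI false

universe u

open TensorProduct KaehlerDifferential

namespace Groth.Agent.Neron6

section Local

variable {A B T : Type u} [CommRing A] [CommRing B] [CommRing T] [Algebra A B] [Algebra A T] [Algebra B T]
  [IsScalarTower A B T]

theorem δ_injective [Algebra.FormallySmooth A T] : Function.Injective (Algebra.H1Cotangent.δ A B T) := by
  rw [injective_iff_map_eq_zero]
  intro x hx
  obtain ⟨y, rfl⟩ := (Algebra.H1Cotangent.exact_map_δ A B T x).1 hx
  rw [Subsingleton.elim y 0, map_zero]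

theorem formallyEtale_of_height_le_one [IsLocalRing T] [IsNoetherianRing T] [Algebra.Smooth A B]
    [Algebra.FormallySmooth A T] [Module.Finite T Ω[T⁄A]]
    (h : ∀ P : Ideal T, P.IsPrime → P.height ≤ 1 →
      ∃ s ∉ P, (∀ x : Ω[T⁄B], s • x = 0) ∧ ∀ x : Algebra.H1Cotangent B T, s • x = 0) :
    Algebra.FormallyEtale B T := by
  classical
  haveI : Module.Free T Ω[T⁄A] := Module.free_of_flat_of_isLocalRing
  haveI : Module.Free T (T ⊗[B] Ω[B⁄A]) := Module.free_of_flat_of_isLocalRing
  let M := mapBaseChange A B T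
  -- one-sided inverses up to a multiplier
  have hN : ∀ s : T, (∀ x : Ω[T⁄B], s • x = 0) → ∃ N : Ω[T⁄A] →ₗ[T] T ⊗[B] Ω[B⁄A], M ∘ₗ N = s • LinearMap.id := by
    intro s hs
    let b := Module.Free.chooseBasis T Ω[T⁄A]
    have hex : ∀ i, ∃ z, M z = s • b i := fun i => ((exact_mapBaseChange_map A B T) (s • b i)).1 (by
      rw [map_smul]; exact hs _)
    choose z hz using hex
    exact ⟨b.constr T z, b.ext fun i => by simp [hz]⟩
  have hker : ∀ s : T, (∀ x : Algebra.H1Cotangent B T, s • x = 0) → ∀ x, M x = 0 → s • x = 0 := by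
    intro s hs x hx
    obtain ⟨y, rfl⟩ := (Algebra.H1Cotangent.exact_δ_mapBaseChange A B T x).1 hx
    rw [← map_smul, hs, map_zero]
  let bm := Module.Free.chooseBasis T (T ⊗[B] Ω[B⁄A])
  let bn := Module.Free.chooseBasis T Ω[T⁄A]
  have hcard : Fintype.card (Module.Free.ChooseBasisIndex T Ω[T⁄A]) =
      Fintype.card (Module.Free.ChooseBasisIndex T (T ⊗[B] Ω[B⁄A])) := by
    obtain ⟨P, hP⟩ := Ideal.nonempty_minimalPrimes (I := (⊥ : Ideal T)) bot_ne_top
    haveI := hP.1.1
    obtain ⟨s, hsP, hs1, hs2⟩ := h P inferInstance (by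
      rw [Ideal.height_eq_zero_iff.2 hP]; exact zero_le_one)
    obtain ⟨N, hMN⟩ := hN s hs1
    have hNM : (s • N) ∘ₗ M = (s * s) • LinearMap.id := by
      refine LinearMap.ext fun x => sub_eq_zero.1 ?_
      have h1 : M (s • x - N (M x)) = 0 := by
        rw [map_sub, map_smul, show M (N (M x)) = s • M x from LinearMap.congr_fun hMN (M x), sub_self]
      have h2 := hker s hs2 _ h1
      rw [smul_sub, sub_eq_zero] at h2
      simp only [LinearMap.comp_apply, LinearMap.smul_apply, LinearMap.id_apply, mul_smul, h2, sub_self]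
    let K := FractionRing (T ⧸ P)
    let φ : T →+* K := (algebraMap (T ⧸ P) K).comp (Ideal.Quotient.mk P)
    have hs0 : φ s ≠ 0 := by
      simp only [φ, RingHom.comp_apply, ne_eq, map_eq_zero_iff _ (IsFractionRing.injective (T ⧸ P) K)]
      rwa [Ideal.Quotient.eq_zero_iff_mem]
    let Mm := (LinearMap.toMatrix bm bn M).map φ
    let Nm := (φ s)⁻¹ • (LinearMap.toMatrix bn bm N).map φ
    have hsmul : ∀ {ι : Type u} [Fintype ι] [DecidableEq ι] (t : T),
        (t • (1 : Matrix ι ι T)).map φ = φ t • (1 : Matrix ι ι K) := fun t => by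
      ext i j
      simp [Matrix.one_apply, apply_ite φ]
    have e1 : (LinearMap.toMatrix bm bn M).map φ * (LinearMap.toMatrix bn bm N).map φ = φ s • 1 := by
      rw [← Matrix.map_mul, ← LinearMap.toMatrix_comp, hMN, map_smul, LinearMap.toMatrix_id, hsmul]
    have e2 : φ s • ((LinearMap.toMatrix bn bm N).map φ * (LinearMap.toMatrix bm bn M).map φ) = φ (s * s) • 1 := by
      rw [← Matrix.map_mul, ← LinearMap.toMatrix_comp, ← hsmul, ← LinearMap.toMatrix_id (v₁ := bm), ← map_smul, ← hNM,
        LinearMap.smul_comp, map_smul]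
      ext i j
      simp
    refine Matrix.square_of_invertible Mm Nm ?_ ?_
    · rw [Matrix.mul_smul, e1, smul_smul, inv_mul_cancel₀ hs0, one_smul]
    · rw [Matrix.smul_mul]
      have e3 := congrArg ((φ s)⁻¹ • ·) e2
      simp only [smul_smul, inv_mul_cancel₀ hs0, one_smul, map_mul] at e3
      rw [e3, smul_smul, ← mul_assoc (φ s)⁻¹ (φ s) (φ s), inv_mul_cancel₀ hs0, one_mul, inv_mul_cancel₀ hs0, one_smul]
  let bm' := bm.reindex (Fintype.equivOfCardEq hcard).symm
  let MM := LinearMap.toMatrix bm' bn M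
  by_cases hd : IsUnit MM.det
  · have hb : Function.Bijective M := (LinearEquiv.ofIsUnitDet (f := M) (v := bm') (v' := bn) hd).bijective
    refine (Algebra.formallyEtale_iff _ _).2 ⟨⟨fun a b => ?_⟩, ⟨fun a b => ?_⟩⟩
    · have key : ∀ z : Ω[T⁄B], z = 0 := by
        intro z
        obtain ⟨w, rfl⟩ := KaehlerDifferential.map_surjective_of_surjective A B T T Function.surjective_id z
        exact ((exact_mapBaseChange_map A B T) w).2 (hb.2 w)
      rw [key a, key b]
    · apply δ_injective (A := A)
      apply hb.1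
      exact ((Algebra.H1Cotangent.exact_δ_mapBaseChange A B T).apply_apply_eq_zero a).trans
        ((Algebra.H1Cotangent.exact_δ_mapBaseChange A B T).apply_apply_eq_zero b).symm
  · exfalso
    obtain ⟨P, hP, -⟩ := Ideal.exists_minimalPrimes_le (J := IsLocalRing.maximalIdeal T)
      (I := Ideal.span {MM.det}) ((Ideal.span_singleton_le_iff_mem _).2 ((IsLocalRing.mem_maximalIdeal _).2 hd))
    haveI := hP.1.1
    haveI : (Ideal.span {MM.det}).IsPrincipal := ⟨⟨_, rfl⟩⟩
    obtain ⟨s, hsP, hs1, -⟩ := h P inferInstance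
      (Ideal.height_le_one_of_isPrincipal_of_mem_minimalPrimes _ P hP)
    obtain ⟨N, hMN⟩ := hN s hs1
    have e : MM * LinearMap.toMatrix bn bm' N = s • 1 := by
      rw [← LinearMap.toMatrix_comp, hMN, map_smul, LinearMap.toMatrix_id]
    have e' := congrArg Matrix.det e
    rw [Matrix.det_mul, Matrix.det_smul, Matrix.det_one, mul_one] at e'
    have : s ^ Fintype.card (Module.Free.ChooseBasisIndex T Ω[T⁄A]) ∈ P := by
      rw [← e']
      exact P.mul_mem_right _ (hP.1.2 (Ideal.mem_span_singleton_self _))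
    exact hsP (Ideal.IsPrime.mem_of_pow_mem inferInstance _ this)

end Local

theorem isEtaleAt_of_height_le_one {A B C : Type u} [CommRing A] [CommRing B] [CommRing C] [Algebra A B]
    [Algebra A C] [Algebra B C] [IsScalarTower A B C] [Algebra.Smooth A B] [Algebra.Smooth A C] [IsNoetherianRing C]
    (q : Ideal C) [q.IsPrime]
    (h : ∀ (P : Ideal C) [P.IsPrime], P ≤ q → P.height ≤ 1 → Algebra.IsEtaleAt B P) :
    Algebra.IsEtaleAt B q := by
  let T := Localization.AtPrime q
  haveI : IsNoetherianRing T := IsLocalization.isNoetherianRing q.primeCompl T inferInstance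
  haveI : Algebra.FormallyEtale C T := Algebra.FormallyEtale.of_isLocalization q.primeCompl
  haveI : Algebra.FormallySmooth A T := Algebra.FormallySmooth.comp A C T
  haveI : Algebra.EssFiniteType A T := Algebra.EssFiniteType.comp A C T
  refine formallyEtale_of_height_le_one (A := A) fun P' hP' hh => ?_
  haveI := hP'
  let P := P'.comap (algebraMap C T)
  have hPq : P ≤ q := by
    intro x hx
    by_contra hxq
    exact hP'.ne_top (Ideal.eq_top_of_isUnit_mem _ hx (IsLocalization.map_units T (⟨x, hxq⟩ : q.primeCompl)))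
  haveI : Algebra.IsEtaleAt B P := h P hPq (by rwa [IsLocalization.height_comap q.primeCompl P'])
  haveI : Algebra.IsEtaleAt B P' :=
    Algebra.FormallyEtale.of_equiv
      ((IsLocalization.localizationLocalizationAtPrimeIsoLocalization q.primeCompl P').restrictScalars B)
  have hmem : (⟨P', hP'⟩ : PrimeSpectrum T) ∈ Algebra.etaleLocus B T := ‹_›
  rw [Algebra.etaleLocus_eq_compl_support] at hmem
  haveI : IsScalarTower A B T := inferInstance
  haveI : Module.Finite T (Algebra.H1Cotangent B T) :=
    Module.Finite.of_injective (Algebra.H1Cotangent.δ A B T) (δ_injective (A := A))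
  haveI : Algebra.EssFiniteType B T := Algebra.EssFiniteType.of_comp A B T
  obtain ⟨h1, h2⟩ := hmem
  rw [Set.mem_compl_iff, Module.support_eq_zeroLocus, PrimeSpectrum.mem_zeroLocus, Set.not_subset] at h1 h2
  obtain ⟨s, hs, hsP⟩ := h1
  obtain ⟨t, ht, htP⟩ := h2
  refine ⟨s * t, fun hmul => (hP'.mem_or_mem hmul).elim hsP htP, fun x => ?_, fun x => ?_⟩
  · rw [mul_comm, mul_smul, Module.mem_annihilator.1 hs x, smul_zero]
  · rw [mul_smul, Module.mem_annihilator.1 ht x, smul_zero]

end Groth.Agent.Neron6
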