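import Groth.Agent.Neron6.EtalePurity
import Mathlib.AlgebraicGeometry.Morphisms.Etale
import Mathlib.AlgebraicGeometry.Morphisms.Flat
import Mathlib.AlgebraicGeometry.Noetherian
import Mathlib.RingTheory.Ideal.GoingDown

/-!
# Extension of étaleness over a closed set of codimension two
-/

set_option autoImplicit false
set_option linter.style.haveILetI false

universe u

open CategoryTheory CategoryTheory.Limits AlgebraicGeometry TopologicalSpace

namespace Groth.Agent.Neron6

theorem height_under_le {R S : Type u} [CommRing R] [CommRing S] [Algebra R S] [Algebra.HasGoingDown R S]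
    (P : PrimeSpectrum S) : (PrimeSpectrum.comap (algebraMap R S) P).asIdeal.height ≤ P.asIdeal.height := by
  rw [PrimeSpectrum.height_eq_orderHeight, PrimeSpectrum.height_eq_orderHeight]
  refine Order.height_le fun l hl => ?_
  have : P.asIdeal.LiesOver l.last.asIdeal := ⟨by rw [hl]; rfl⟩
  obtain ⟨L, hL, hlast, -⟩ := Ideal.exists_ltSeries_of_hasGoingDown l P.asIdeal
  rw [← hL]
  exact Order.length_le_height (le_of_eq hlast)

set_option backward.isDefEq.respectTransparency false in
set_option backward.isDefEq.respectTransparency.types false in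
theorem etale_of_codim_two {G H S : Scheme.{u}} [IsLocallyNoetherian S] (g : G ⟶ S) (h : H ⟶ S) [Smooth g]
    [Smooth h] (f : G ⟶ H) (w : f ≫ h = g) (S₁ : S.Opens)
    (hcodim : ∀ x : S, x ∉ S₁ → (2 : WithBot ℕ∞) ≤ ringKrullDim (S.presheaf.stalk x))
    [Etale ((g ⁻¹ᵁ S₁).ι ≫ f)] : Etale f := by
  haveI : IsLocallyNoetherian G := LocallyOfFiniteType.isLocallyNoetherian g
  haveI : MorphismProperty.RespectsRight (@Etale) (@IsOpenImmersion) :=
    ⟨fun i hi f hf => by
      haveI : IsOpenImmersion i := hi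
      haveI : Etale f := hf
      exact inferInstanceAs (Etale (f ≫ i))⟩
  refine IsZariskiLocalAtSource.iff_exists_resLE.mpr fun z => ?_
  obtain ⟨W, hW, hzW, -⟩ := exists_isAffineOpen_mem_and_subset (x := g z) (U := ⊤) trivial
  obtain ⟨V, hV, hzV, hVW⟩ := exists_isAffineOpen_mem_and_subset (x := f z) (U := h ⁻¹ᵁ W)
    (show h (f z) ∈ W by rw [← Scheme.Hom.comp_apply, w]; exact hzW)
  obtain ⟨U, hU, hzU, hUV⟩ := exists_isAffineOpen_mem_and_subset (x := z) (U := f ⁻¹ᵁ V) hzV
  have hUW : U ≤ g ⁻¹ᵁ W := by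
    rw [← w]
    exact fun x hx => hVW (hUV hx)
  have conv : ∀ (D : G.Opens) (hD : IsAffineOpen D) (eD : D ≤ f ⁻¹ᵁ V),
      Etale (f.resLE V D eD) ↔ (f.appLE V D eD).hom.Etale := fun D hD eD => by
    haveI : IsAffine _ := hD
    haveI : IsAffine _ := hV
    rw [HasRingHomProperty.iff_of_isAffine (P := @Etale)]
    exact RingHom.Etale.respectsIso.arrow_mk_iso_iff (arrowResLEAppIso f V D eD)
  refine ⟨V, U, hzU, hUV, (conv U hU hUV).2 ?_⟩
  let A := Γ(S, W)
  let B := Γ(H, V)
  let C := Γ(G, U)
  letI : Algebra A B := (h.appLE W V hVW).hom.toAlgebra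
  letI : Algebra B C := (f.appLE V U hUV).hom.toAlgebra
  letI : Algebra A C := (g.appLE W U hUW).hom.toAlgebra
  haveI : IsScalarTower A B C := IsScalarTower.of_algebraMap_eq' <| by
    show (g.appLE W U hUW).hom = (f.appLE V U hUV).hom.comp (h.appLE W V hVW).hom
    rw [← CommRingCat.hom_comp, Scheme.Hom.appLE_comp_appLE f h W V U hVW hUV]
    subst w
    rfl
  haveI : Algebra.Smooth A B := h.smooth_appLE hW hV hVW
  haveI : Algebra.Smooth A C := g.smooth_appLE hW hU hUW
  haveI : Algebra.FinitePresentation B C := Algebra.FinitePresentation.of_restrict_scalars_finitePresentation A B C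
  haveI : IsNoetherianRing C := IsLocallyNoetherian.component_noetherian ⟨U, hU⟩
  haveI : IsNoetherianRing A := IsLocallyNoetherian.component_noetherian ⟨W, hW⟩
  haveI : Module.Flat A C := inferInstance
  have hgood : ∀ (P : Ideal C) [P.IsPrime], P.height ≤ 1 → Algebra.IsEtaleAt B P := by
    intro P _ hP
    let x : G := hU.fromSpec ⟨P, inferInstance⟩
    let p : PrimeSpectrum A := PrimeSpectrum.comap (algebraMap A C) ⟨P, inferInstance⟩
    have hgx : g x = hW.fromSpec p := by
      show (hU.fromSpec ≫ g) ⟨P, inferInstance⟩ = _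
      rw [← hW.SpecMap_appLE_fromSpec g hU hUW]
      rfl
    have hxS : g x ∈ S₁ := by
      by_contra hn
      have h2 := hcodim _ hn
      have hyW : hW.fromSpec p ∈ W := hW.range_fromSpec.le ⟨p, rfl⟩
      rw [hgx] at h2
      letI := S.presheaf.algebra_section_stalk (⟨hW.fromSpec p, hyW⟩ : W)
      haveI : IsLocalization.AtPrime (S.presheaf.stalk (hW.fromSpec p)) p.asIdeal := hW.isLocalization_stalk' p hyW
      rw [IsLocalization.AtPrime.ringKrullDim_eq_height p.asIdeal (S.presheaf.stalk (hW.fromSpec p))] at h2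
      have h3 := (height_under_le (R := A) (⟨P, inferInstance⟩ : PrimeSpectrum C)).trans hP
      have h4 : ((2 : ℕ∞) : WithBot ℕ∞) ≤ ((1 : ℕ∞) : WithBot ℕ∞) := h2.trans (WithBot.coe_le_coe.2 h3)
      exact absurd (WithBot.coe_le_coe.1 h4) (by decide)
    have hxU : x ∈ U := hU.range_fromSpec.le ⟨_, rfl⟩
    obtain ⟨c, hc, hxc⟩ := hU.exists_basicOpen_le (V := g ⁻¹ᵁ S₁) ⟨x, hxS⟩ hxU
    let D := G.basicOpen c
    have hDU : D ≤ U := G.basicOpen_le c
    have hDV : D ≤ f ⁻¹ᵁ V := hDU.trans hUV
    have hD : (f.appLE V D hDV).hom.Etale := by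
      refine (conv D (hU.basicOpen c) hDV).1 ?_
      haveI : Etale (D.ι ≫ f) := by
        rw [← G.homOfLE_ι hc, Category.assoc]; infer_instance
      haveI : Etale (f.resLE V D hDV ≫ V.ι) := by rw [Scheme.Hom.resLE_comp_ι]; infer_instance
      exact Etale.of_comp _ V.ι
    letI : Algebra B Γ(G, D) := (f.appLE V D hDV).hom.toAlgebra
    haveI : IsScalarTower B C Γ(G, D) := IsScalarTower.of_algebraMap_eq' <| by
      show (f.appLE V D hDV).hom = (G.presheaf.map (homOfLE hDU).op).hom.comp (f.appLE V U hUV).hom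
      rw [← CommRingCat.hom_comp, Scheme.Hom.appLE_map]
    haveI : IsLocalization.Away c Γ(G, D) := hU.isLocalization_basicOpen c
    haveI : Algebra.Etale B Γ(G, D) := hD
    haveI : Algebra.Etale B (Localization.Away c) :=
      Algebra.Etale.of_equiv (A := Γ(G, D))
        ((IsLocalization.algEquiv (Submonoid.powers c) Γ(G, D) (Localization.Away c)).restrictScalars B)
    refine (Algebra.basicOpen_subset_etaleLocus_iff_etale.2 ‹Algebra.Etale B (Localization.Away c)›)
      (show (⟨P, inferInstance⟩ : PrimeSpectrum C) ∈ (PrimeSpectrum.basicOpen c : Set _) from (?_ : c ∉ P))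
    intro hcP
    have : (⟨P, inferInstance⟩ : PrimeSpectrum C) ∈ hU.fromSpec ⁻¹ᵁ G.basicOpen c := hxc
    rw [hU.fromSpec_preimage_basicOpen] at this
    exact this hcP
  have : Algebra.Etale B C := Algebra.etaleLocus_eq_univ_iff_etale.1 (Set.eq_univ_of_forall fun q =>
    isEtaleAt_of_height_le_one (A := A) q.asIdeal fun P _ _ hP => hgood P hP)
  exact this

end Groth.Agent.Neron6
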