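import Groth.Agent.Neron6.BirOpen
import Groth.Agent.S2155
import Groth.Agent.S4997

/-!
# Extension of rational points of the smooth locus of a finite normal scheme
-/

set_option autoImplicit false
set_option linter.style.haveILetI false

universe u

open CategoryTheory CategoryTheory.Limits AlgebraicGeometry TopologicalSpace

namespace Groth.Agent.Neron6

/-- In a locally Noetherian normal scheme the closure of an open set is open. -/
theorem isOpen_closure_of_normal {P : Scheme.{u}} [IsLocallyNoetherian P] (hP : Pi1.IsNormalScheme P)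
    {A : Set P} (hA : IsOpen A) : IsOpen (closure A) := by
  refine isOpen_iff_forall_mem_open.2 fun x hx => ?_
  haveI := (hP x).1
  obtain ⟨C, hxC, hC⟩ := S2260.result P x
  have hCp : IsPreirreducible ((C : P.Opens) : Set P) := by
    have h1 : IsPreirreducible (Set.univ : Set (C : Scheme.{u})) := PreirreducibleSpace.isPreirreducible_univ
    have h2 := h1.image C.ι (C.ι.continuous.continuousOn)
    rwa [Set.image_univ, Scheme.Opens.range_ι] at h2
  refine ⟨C, fun y hy => mem_closure_iff.2 fun o ho hyo => ?_, C.isOpen, hxC⟩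
  obtain ⟨b, hbC, hbA⟩ := mem_closure_iff.1 hx C C.isOpen hxC
  obtain ⟨c, -, hco, hcA⟩ := hCp o A ho hA ⟨y, hy, hyo⟩ ⟨b, hbC, hbA⟩
  exact ⟨c, hco, hcA⟩

theorem smooth_smoothLocus_ι {X Y : Scheme.{u}} (f : X ⟶ Y) [LocallyOfFinitePresentation f] :
    Smooth (f.smoothLocus.ι ≫ f) := by
  rw [← Scheme.Hom.smoothLocus_eq_top_iff, ← Scheme.Hom.preimage_smoothLocus_eq, top_le_iff.symm]
  exact fun z _ => z.2

theorem exists_extension {S : Scheme.{u}} [IsLocallyNoetherian S] (hS : Pi1.IsNormalScheme S)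
    {T : Scheme.{u}} (π : T ⟶ S) [IsFinite π] [LocallyOfFinitePresentation π] (hT : Pi1.IsNormalScheme T)
    {Z : Scheme.{u}} (h : Z ⟶ S) [Smooth h] {Z₁ : Scheme.{u}} (a : Z₁ ⟶ Z) [IsOpenImmersion a]
    [IsDominant a] (u : Z₁ ⟶ π.smoothLocus) (hu : u ≫ π.smoothLocus.ι ≫ π = a ≫ h) :
    ∃ g : Z ⟶ π.smoothLocus, g ≫ π.smoothLocus.ι ≫ π = h ∧ a ≫ g = u := by
  let p : pullback h π ⟶ Z := pullback.fst h π
  let q : pullback h π ⟶ T := pullback.snd h π
  haveI : IsLocallyNoetherian Z := LocallyOfFiniteType.isLocallyNoetherian h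
  haveI : IsLocallyNoetherian (pullback h π) := LocallyOfFiniteType.isLocallyNoetherian p
  have hZn : Pi1.IsNormalScheme Z := isNormalScheme_of_smooth h hS
  have hP : Pi1.IsNormalScheme (pullback h π) := isNormalScheme_of_smooth q hT
  have hloc : p.smoothLocus = q ⁻¹ᵁ π.smoothLocus :=
    S2155.result π h p q (IsPullback.of_hasPullback h π).flip (Or.inr inferInstance)
  let s₀ : Z₁ ⟶ pullback h π := pullback.lift a (u ≫ π.smoothLocus.ι) (by rw [Category.assoc]; exact hu.symm)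
  have hs₀p : s₀ ≫ p = a := pullback.lift_fst _ _ _
  have hs₀q : s₀ ≫ q = u ≫ π.smoothLocus.ι := pullback.lift_snd _ _ _
  have hs₀N : Set.range s₀ ⊆ (p.smoothLocus : Set _) := by
    rintro _ ⟨z, rfl⟩
    rw [hloc]
    show q (s₀ z) ∈ π.smoothLocus
    rw [← Scheme.Hom.comp_apply, hs₀q, Scheme.Hom.comp_apply]
    exact (u z).2
  let j : Z₁ ⟶ p.smoothLocus := IsOpenImmersion.lift p.smoothLocus.ι s₀ (by simpa using hs₀N)
  have hj : j ≫ p.smoothLocus.ι = s₀ := IsOpenImmersion.lift_fac _ _ _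
  haveI : Smooth (p.smoothLocus.ι ≫ p) := smooth_smoothLocus_ι p
  haveI : Etale (p.smoothLocus.ι ≫ p) := (S4997.result _).2 ⟨inferInstance, inferInstance⟩
  have hjp : j ≫ p.smoothLocus.ι ≫ p = a := by rw [← Category.assoc, hj, hs₀p]
  haveI : Etale (j ≫ p.smoothLocus.ι ≫ p) := by rw [hjp]; infer_instance
  haveI : Etale j := Etale.of_comp j (p.smoothLocus.ι ≫ p)
  haveI : Mono j := by
    haveI : Mono (j ≫ p.smoothLocus.ι ≫ p) := by rw [hjp]; infer_instance
    exact mono_of_mono j (p.smoothLocus.ι ≫ p)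
  haveI : IsOpenImmersion j := IsOpenImmersion.of_flat_of_mono j
  haveI : IsOpenImmersion s₀ := hj ▸ inferInstance
  let U : (pullback h π).Opens := ⟨closure (Set.range s₀), isOpen_closure_of_normal hP s₀.isOpenEmbedding.isOpen_range⟩
  have hUn : Pi1.IsNormalScheme (U : Scheme.{u}) := isNormalScheme_of_smooth U.ι hP
  haveI : IsClosedImmersion U.ι := IsClosedImmersion.of_isPreimmersion U.ι (by
    rw [Scheme.Opens.range_ι]; exact isClosed_closure)
  let f : (U : Scheme.{u}) ⟶ Z := U.ι ≫ p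
  let s : Z₁ ⟶ U := IsOpenImmersion.lift U.ι s₀ (by rw [Scheme.Opens.range_ι]; exact subset_closure)
  have hs : s ≫ U.ι = s₀ := IsOpenImmersion.lift_fac _ _ _
  have hsf : s ≫ f = a := by rw [← Category.assoc, hs, hs₀p]
  haveI : IsOpenImmersion s := by
    haveI : IsOpenImmersion (s ≫ U.ι) := by rw [hs]; infer_instance
    exact IsOpenImmersion.of_comp s U.ι
  let W : Z.Opens := a.opensRange
  let P₀ : (pullback h π).Opens := p ⁻¹ᵁ W
  -- the section is closed over `W`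
  have hclosed : ∀ x : (pullback h π : Scheme.{u}), x ∈ P₀ → x ∈ closure (Set.range s₀) → x ∈ Set.range s₀ := by
    intro x hxP hx
    let s' : Z₁ ⟶ P₀ := IsOpenImmersion.lift P₀.ι s₀ (by
      rw [Scheme.Opens.range_ι]
      rintro _ ⟨z, rfl⟩
      exact ⟨z, by rw [← hs₀p]; rfl⟩)
    have hs' : s' ≫ P₀.ι = s₀ := IsOpenImmersion.lift_fac _ _ _
    let a' : Z₁ ⟶ W := IsOpenImmersion.lift W.ι a (by rw [Scheme.Opens.range_ι]; exact subset_rfl)
    have ha' : a' ≫ W.ι = a := IsOpenImmersion.lift_fac _ _ _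
    haveI : IsIso a' := by
      haveI : IsOpenImmersion (a' ≫ W.ι) := by rw [ha']; infer_instance
      haveI : IsOpenImmersion a' := IsOpenImmersion.of_comp a' W.ι
      refine (isIso_iff_isOpenImmersion_and_surjective _).2 ⟨inferInstance, ⟨fun w => ?_⟩⟩
      obtain ⟨z, hz⟩ := w.2
      exact ⟨z, W.ι.isOpenEmbedding.injective (by rw [← Scheme.Hom.comp_apply, ha', hz]; rfl)⟩
    haveI : IsClosedImmersion (s' ≫ (p ∣_ W)) := by
      have : s' ≫ (p ∣_ W) = a' := by
        rw [← cancel_mono W.ι, Category.assoc, morphismRestrict_ι, ← Category.assoc, hs', hs₀p, ha']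
      rw [this]; infer_instance
    haveI : IsClosedImmersion s' := IsClosedImmersion.of_comp s' (p ∣_ W)
    have hcl : closure (P₀.ι ⁻¹' Set.range s₀) = P₀.ι ⁻¹' closure (Set.range s₀) :=
      (P₀.ι.isOpenEmbedding.isOpenMap.preimage_closure_eq_closure_preimage P₀.ι.continuous _).symm
    have hrs : P₀.ι ⁻¹' Set.range s₀ = Set.range s' := by
      rw [← hs']
      ext y
      exact ⟨fun ⟨z, hz⟩ => ⟨z, P₀.ι.isOpenEmbedding.injective hz⟩, fun ⟨z, hz⟩ => ⟨z, congrArg P₀.ι hz⟩⟩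
    rw [hrs, s'.isClosedEmbedding.isClosed_range.closure_eq] at hcl
    obtain ⟨z, hz⟩ := hcl.ge (show (⟨x, hxP⟩ : (P₀ : Scheme.{u})) ∈ _ from hx)
    exact ⟨z, by rw [← hs', Scheme.Hom.comp_apply, hz]; rfl⟩
  have hrange : Set.range s = (f ⁻¹ᵁ W : Set (U : Scheme.{u})) := by
    ext x
    refine ⟨?_, fun hx => ?_⟩
    · rintro ⟨z, rfl⟩
      exact ⟨z, (congrArg (fun φ : Z₁ ⟶ Z => φ z) hsf.symm)⟩
    · obtain ⟨z, hz⟩ := hclosed (U.ι x) hx x.2
      exact ⟨z, U.ι.isOpenEmbedding.injective (by rw [← Scheme.Hom.comp_apply, hs, hz])⟩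
  haveI : IsOpenImmersion ((f ⁻¹ᵁ W).ι ≫ f) := by
    let l : Z₁ ⟶ (f ⁻¹ᵁ W : Scheme.{u}) :=
      IsOpenImmersion.lift (f ⁻¹ᵁ W).ι s (by rw [Scheme.Opens.range_ι, hrange])
    have hl : l ≫ (f ⁻¹ᵁ W).ι = s := IsOpenImmersion.lift_fac _ _ _
    haveI : IsIso l := by
      haveI : IsOpenImmersion (l ≫ (f ⁻¹ᵁ W).ι) := by rw [hl]; infer_instance
      haveI : IsOpenImmersion l := IsOpenImmersion.of_comp l (f ⁻¹ᵁ W).ι
      refine (isIso_iff_isOpenImmersion_and_surjective _).2 ⟨inferInstance, ⟨fun w => ?_⟩⟩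
      obtain ⟨z, hz⟩ := hrange.ge w.2
      exact ⟨z, (f ⁻¹ᵁ W).ι.isOpenEmbedding.injective (by rw [← Scheme.Hom.comp_apply, hl, hz]; rfl)⟩
    have : (f ⁻¹ᵁ W).ι ≫ f = inv l ≫ a := by
      rw [IsIso.eq_inv_comp, ← Category.assoc, hl, hsf]
    rw [this]; infer_instance
  have hd : Dense ((f ⁻¹ᵁ W : (U : Scheme.{u}).Opens) : Set (U : Scheme.{u})) := by
    rw [← hrange]
    intro x
    have hrs : Set.range s = U.ι ⁻¹' Set.range s₀ := by
      rw [← hs]
      ext y
      exact ⟨fun ⟨z, hz⟩ => ⟨z, congrArg U.ι hz⟩, fun ⟨z, hz⟩ => ⟨z, U.ι.isOpenEmbedding.injective hz⟩⟩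
    rw [hrs, ← U.ι.isOpenEmbedding.isOpenMap.preimage_closure_eq_closure_preimage U.ι.continuous]
    exact x.2
  haveI : IsOpenImmersion f := isOpenImmersion_of_dense_iso hUn hZn f W hd
  haveI : IsIso f := by
    refine (isIso_iff_isOpenImmersion_and_surjective _).2 ⟨inferInstance, ⟨?_⟩⟩
    have hsub : Set.range a ⊆ Set.range f := by rw [← hsf]; rintro _ ⟨z, rfl⟩; exact ⟨s z, rfl⟩
    have := closure_minimal hsub f.isClosedMap.isClosed_range
    rw [a.denseRange.closure_range] at this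
    exact Set.range_eq_univ.1 (Set.univ_subset_iff.1 this)
  have hUN : U ≤ p.smoothLocus := by
    intro x hx
    have : (⟨x, hx⟩ : (U : Scheme.{u})) ∈ U.ι ⁻¹ᵁ p.smoothLocus := by
      rw [Scheme.Hom.preimage_smoothLocus_eq, Scheme.Hom.smoothLocus_eq_top]; trivial
    exact this
  have hr : Set.range (inv f ≫ U.ι ≫ q) ⊆ Set.range π.smoothLocus.ι := by
    rintro _ ⟨z, rfl⟩
    rw [Scheme.Opens.range_ι]
    have := hUN (inv f z).2
    rwa [hloc] at this
  refine ⟨IsOpenImmersion.lift π.smoothLocus.ι (inv f ≫ U.ι ≫ q) hr, ?_, ?_⟩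
  · rw [← Category.assoc, IsOpenImmersion.lift_fac, Category.assoc, Category.assoc,
      ← pullback.condition, IsIso.inv_comp_eq]
    simp [f, p]
  · rw [← cancel_mono π.smoothLocus.ι, Category.assoc, IsOpenImmersion.lift_fac, ← hs₀q, ← hs,
      Category.assoc, ← Category.assoc a, ← hsf, Category.assoc s f, IsIso.hom_inv_id, Category.comp_id]

end Groth.Agent.Neron6
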