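import Groth.Agent.S2043
import Mathlib.AlgebraicGeometry.Morphisms.Etale
import Mathlib.AlgebraicGeometry.ResidueField
import Mathlib.RingTheory.Smooth.Basic
import Mathlib.RingTheory.Etale.Basic

/-!
# Étale quasi-sections of smooth morphisms through a rational point
-/

set_option autoImplicit false
set_option linter.style.haveILetI false

universe u

open CategoryTheory CategoryTheory.Limits AlgebraicGeometry TopologicalSpace
open scoped TensorProduct

namespace Groth.Agent.Neron6

/-- A point of a smooth algebra with values in a field of fractions of a quotient of the base lies on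
an étale quasi-section. -/
theorem exists_etale_quasiSection {A B : Type u} [CommRing A] [CommRing B] [Algebra A B] [Algebra.Smooth A B]
    {K : Type u} [Field K] [Algebra A K]
    (hK : ∀ y : K, ∃ c d : A, algebraMap A K d ≠ 0 ∧ algebraMap A K d * y = algebraMap A K c)
    (φ : B →ₐ[A] K) :
    ∃ (A' : Type u) (_ : CommRing A') (_ : Algebra A A'), Algebra.Etale A A' ∧
      ∃ (τ : B →ₐ[A] A') (q : Ideal A'), q.IsPrime ∧ q.comap τ = RingHom.ker φ := by
  classical
  obtain ⟨t, ht⟩ := Algebra.FiniteType.out (R := A) (A := B)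
  choose c d hd hcd using hK
  let a : A := ∏ b ∈ t, d (φ b)
  have ha : algebraMap A K a ≠ 0 := by
    rw [map_prod]
    exact Finset.prod_ne_zero_iff.2 fun b _ => hd _
  let Aa := Localization.Away a
  let ι : Aa →ₐ[A] K :=
    IsLocalization.liftAlgHom (M := Submonoid.powers a) (f := Algebra.ofId A K) (by
      rintro ⟨_, n, rfl⟩
      exact (isUnit_iff_ne_zero.2 (pow_ne_zero n ha)).map (RingHom.id K) |> fun h => by simpa [map_pow] using h)
  letI : Algebra Aa K := ι.toRingHom.toAlgebra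
  haveI : IsScalarTower A Aa K := IsScalarTower.of_algebraMap_eq fun x => (ι.commutes x).symm
  let I : Ideal Aa := RingHom.ker ι
  have hgen : ∀ b : B, φ b ∈ ι.range := by
    intro b
    have hb : b ∈ Algebra.adjoin A (t : Set B) := by rw [ht]; trivial
    suffices Algebra.adjoin A (t : Set B) ≤ ι.range.comap φ from this hb
    refine Algebra.adjoin_le fun x hx => ?_
    obtain ⟨e, he⟩ : d (φ x) ∣ a := Finset.dvd_prod_of_mem _ hx
    refine ⟨IsLocalization.mk' Aa (c (φ x) * e) ⟨a, Submonoid.mem_powers a⟩, ?_⟩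
    apply mul_left_cancel₀ ha
    show algebraMap A K a * ι _ = algebraMap A K a * φ x
    rw [← ι.commutes a, ← map_mul, IsLocalization.mk'_spec'_mk, ι.commutes, ι.commutes, map_mul, ← hcd, he, map_mul]
    ring
  let eI : (Aa ⧸ I) ≃ₐ[Aa] (Algebra.ofId Aa K).range :=
    AlgEquiv.ofBijective (Ideal.Quotient.liftₐ I (Algebra.ofId Aa K).rangeRestrict (fun z hz => Subtype.ext hz))
      ⟨(injective_iff_map_eq_zero _).2 fun z => by
        obtain ⟨z, rfl⟩ := Ideal.Quotient.mk_surjective z
        intro hz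
        exact Ideal.Quotient.eq_zero_iff_mem.2 (congrArg Subtype.val hz),
      fun ⟨y, z, hz⟩ => ⟨Ideal.Quotient.mk I z, Subtype.ext hz⟩⟩
  let φA : Aa ⊗[A] B →ₐ[Aa] K := Algebra.TensorProduct.lift (Algebra.ofId Aa K) φ (fun _ _ => .all _ _)
  have hrange : ∀ z, φA z ∈ (Algebra.ofId Aa K).range := by
    intro z
    induction z using TensorProduct.induction_on with
    | zero => simp
    | tmul x b =>
      obtain ⟨w, hw⟩ := hgen b
      refine ⟨x * w, ?_⟩
      show ι (x * w) = φA (x ⊗ₜ b)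
      rw [Algebra.TensorProduct.lift_tmul, map_mul]
      exact congrArg (ι x * ·) hw
    | add x y hx hy => rw [map_add]; exact add_mem hx hy
  let σ : Aa ⊗[A] B →ₐ[Aa] Aa ⧸ I := eI.symm.toAlgHom.comp (φA.codRestrict _ hrange)
  obtain ⟨A', _, _, hA', hbij, τ', hτ'⟩ := S2043.result I σ
  letI : Algebra A A' := ((algebraMap Aa A').comp (algebraMap A Aa)).toAlgebra
  haveI : IsScalarTower A Aa A' := IsScalarTower.of_algebraMap_eq fun _ => rfl
  haveI : Algebra.Etale A Aa := Algebra.Etale.of_isLocalizationAway a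
  haveI : Algebra.Etale A A' := Algebra.Etale.comp A Aa A'
  let τ : B →ₐ[A] A' := (τ'.restrictScalars A).comp Algebra.TensorProduct.includeRight
  haveI : I.IsPrime := RingHom.ker_isPrime _
  have hq : (I.map (algebraMap Aa A')).IsPrime := by
    rw [← Ideal.Quotient.isDomain_iff_prime]
    exact (RingEquiv.ofBijective _ hbij).symm.toMulEquiv.isDomain _
  refine ⟨A', inferInstance, inferInstance, inferInstance, τ, I.map (algebraMap Aa A'), hq, ?_⟩
  ext b
  rw [Ideal.mem_comap, ← Ideal.Quotient.eq_zero_iff_mem]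
  show Ideal.Quotient.mk _ (τ' (1 ⊗ₜ b)) = 0 ↔ _
  rw [hτ', map_eq_zero_iff _ hbij.1, RingHom.mem_ker]
  show eI.symm ⟨φA (1 ⊗ₜ b), hrange _⟩ = 0 ↔ φ b = 0
  rw [map_eq_zero_iff _ eI.symm.injective, ← Subtype.val_inj]
  show φA (1 ⊗ₜ b) = (0 : K) ↔ _
  rw [Algebra.TensorProduct.lift_tmul, map_one, one_mul]

set_option backward.isDefEq.respectTransparency false in
set_option backward.isDefEq.respectTransparency.types false in
/-- A rational point of the fibre of a smooth morphism lies on an étale quasi-section. -/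
theorem exists_etale_through_rational {P W : Scheme.{u}} (p : P ⟶ W) [Smooth p] (w : W)
    (q : Spec (W.residueField w) ⟶ P) (hq : q ≫ p = W.fromSpecResidueField w) :
    ∃ (U : Scheme.{u}) (h : U ⟶ P), Etale (h ≫ p) ∧ q (IsLocalRing.closedPoint (W.residueField w)) ∈ Set.range h := by
  let o : Spec (W.residueField w) := IsLocalRing.closedPoint (W.residueField w)
  obtain ⟨W₀, hW₀, hwW₀, -⟩ := exists_isAffineOpen_mem_and_subset (x := w) (U := ⊤) trivial
  have hpx : p (q o) = w := by
    rw [← Scheme.Hom.comp_apply, hq]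
    exact Scheme.fromSpecResidueField_apply w o
  obtain ⟨V, hV, hxV, hVW⟩ := exists_isAffineOpen_mem_and_subset (x := q o) (U := p ⁻¹ᵁ W₀)
    (show p (q o) ∈ W₀ by rw [hpx]; exact hwW₀)
  let κ := W.residueField w
  have hr : Set.range q ⊆ Set.range hV.fromSpec := by
    rintro _ ⟨z, rfl⟩
    rw [Subsingleton.elim z o, hV.range_fromSpec]
    exact hxV
  let φ : Γ(P, V) ⟶ κ := Spec.preimage (IsOpenImmersion.lift hV.fromSpec q hr)
  have hφ : Spec.map φ ≫ hV.fromSpec = q := by rw [Spec.map_preimage, IsOpenImmersion.lift_fac]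
  let α : Γ(W, W₀) ⟶ κ := W.presheaf.germ W₀ w hwW₀ ≫ W.residue w
  have hα : Spec.map α ≫ hW₀.fromSpec = W.fromSpecResidueField w := by
    rw [Spec.map_comp, Category.assoc, Scheme.fromSpecResidueField, ← hW₀.fromSpecStalk_eq_fromSpecStalk hwW₀]
    rfl
  have hcompat : p.appLE W₀ V hVW ≫ φ = α := by
    apply Spec.map_injective
    rw [← cancel_mono hW₀.fromSpec, Spec.map_comp, Category.assoc, hW₀.SpecMap_appLE_fromSpec p hV hVW,
      reassoc_of% hφ, hq, hα]
  letI : Algebra Γ(W, W₀) Γ(P, V) := (p.appLE W₀ V hVW).hom.toAlgebra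
  haveI : Algebra.Smooth Γ(W, W₀) Γ(P, V) := p.smooth_appLE hW₀ hV hVW
  letI : Algebra Γ(W, W₀) κ := α.hom.toAlgebra
  let φA : Γ(P, V) →ₐ[Γ(W, W₀)] κ :=
    { φ.hom with commutes' := fun r => ConcreteCategory.congr_hom hcompat r }
  have hK : ∀ y : κ, ∃ c d : Γ(W, W₀), algebraMap Γ(W, W₀) κ d ≠ 0 ∧
      algebraMap Γ(W, W₀) κ d * y = algebraMap Γ(W, W₀) κ c := by
    intro y
    obtain ⟨z, rfl⟩ := W.residue_surjective w y
    letI := W.presheaf.algebra_section_stalk (⟨w, hwW₀⟩ : W₀)
    haveI := hW₀.isLocalization_stalk (⟨w, hwW₀⟩ : W₀)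
    obtain ⟨⟨c, d, hdp⟩, hcd⟩ := IsLocalization.surj (hW₀.primeIdealOf ⟨w, hwW₀⟩).asIdeal.primeCompl z
    refine ⟨c, d, ?_, ?_⟩
    · have hu : IsUnit (W.presheaf.germ W₀ w hwW₀ d) :=
        IsLocalization.map_units (W.presheaf.stalk w) (⟨d, hdp⟩ : (hW₀.primeIdealOf ⟨w, hwW₀⟩).asIdeal.primeCompl)
      exact (hu.map (W.residue w).hom).ne_zero
    · show W.residue w (W.presheaf.germ W₀ w hwW₀ d) * _ = W.residue w (W.presheaf.germ W₀ w hwW₀ c)
      rw [← map_mul, mul_comm]
      exact congrArg _ hcd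
  obtain ⟨A', _, _, hA', τ, q', hq', hker⟩ := exists_etale_quasiSection hK φA
  refine ⟨Spec (CommRingCat.of A'), Spec.map (CommRingCat.ofHom τ.toRingHom) ≫ hV.fromSpec, ?_,
    ⟨⟨q', hq'⟩, ?_⟩⟩
  · rw [Category.assoc, ← hW₀.SpecMap_appLE_fromSpec p hV hVW, ← Category.assoc, ← Spec.map_comp]
    have e : p.appLE W₀ V hVW ≫ CommRingCat.ofHom τ.toRingHom = CommRingCat.ofHom (algebraMap Γ(W, W₀) A') := by
      ext r
      exact τ.commutes r
    rw [e]
    haveI : Etale (Spec.map (CommRingCat.ofHom (algebraMap Γ(W, W₀) A'))) :=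
      (HasRingHomProperty.Spec_iff (P := @Etale)).2 (RingHom.etale_algebraMap.2 hA')
    infer_instance
  · rw [Scheme.Hom.comp_apply]
    show hV.fromSpec _ = q o
    rw [← hφ, Scheme.Hom.comp_apply]
    congr 1
    refine PrimeSpectrum.ext ?_
    show q'.comap τ.toRingHom = Ideal.comap φ.hom (IsLocalRing.maximalIdeal κ)
    rw [IsLocalRing.maximalIdeal_eq_bot]
    exact hker

end Groth.Agent.Neron6
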