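import Groth.Agent.Neron6.Over
import Mathlib.AlgebraicGeometry.Sites.Fpqc
import Mathlib.AlgebraicGeometry.Morphisms.Smooth
import Mathlib.CategoryTheory.Monoidal.Cartesian.Over

/-!
# The mapping property for twisted forms
-/

set_option autoImplicit false
set_option backward.isDefEq.respectTransparency false

universe u

open CategoryTheory CategoryTheory.Limits AlgebraicGeometry MonoidalCategory CartesianMonoidalCategory

namespace Groth.Agent.Neron6

variable {S T : Scheme.{u}}

/-- The mapping property for smooth test schemes. -/
def NMP (i : T ⟶ S) (A : Over S) : Prop :=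
  ∀ Z : Over S, Smooth Z.hom → Function.Bijective (fun g : Z ⟶ A => (Over.pullback i).map g)

variable (i : T ⟶ S) {A B N : Over S} (e : A ⊗ N ≅ B ⊗ N) (he : e.hom ≫ snd B N = snd A N)

include he in
theorem inv_snd : e.inv ≫ snd A N = snd B N := by rw [Iso.inv_comp_eq, he]

/-- Transport of a map along the twist. -/
noncomputable def twist {W : Over S} (n : W ⟶ N) (x : W ⟶ A) : W ⟶ B := lift x n ≫ e.hom ≫ fst B N

include he in
theorem lift_twist {W : Over S} (n : W ⟶ N) (x : W ⟶ A) : lift (twist e n x) n = lift x n ≫ e.hom := by
  ext1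
  · simp [twist]
  · simp [twist, he]

theorem map_twist_congr {W : Over S} (n : W ⟶ N) {x y : W ⟶ A}
    (h : (Over.pullback i).map x = (Over.pullback i).map y) :
    (Over.pullback i).map (twist e n x) = (Over.pullback i).map (twist e n y) := by
  simp only [twist, Functor.map_comp]
  rw [← Functor.Monoidal.lift_μ, ← Functor.Monoidal.lift_μ, h]

include he in
theorem twist_symm_twist {W : Over S} (n : W ⟶ N) (x : W ⟶ A) : twist e.symm n (twist e n x) = x := by
  conv_lhs => rw [twist, lift_twist e he]
  simp

include he in
/-- Twisted forms by a smooth surjective object have the mapping property. -/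
theorem nmp_of_twist [Smooth N.hom] [Surjective N.hom] (hB : NMP i B) : NMP i A := by
  have he' : e.symm.hom ≫ snd A N = snd B N := inv_snd e he
  have hW : ∀ {W : Over S}, Smooth W.hom → (W ⟶ N) →
      Function.Bijective (fun g : W ⟶ A => (Over.pullback i).map g) := by
    intro W hWs n
    refine ⟨fun x y h => ?_, fun h => ?_⟩
    · have h1 := (hB W hWs).1 (map_twist_congr i e n h)
      rw [← twist_symm_twist e he n x, h1, twist_symm_twist e he]
    · obtain ⟨y, hy⟩ := (hB W hWs).2
        (lift h ((Over.pullback i).map n) ≫ Functor.LaxMonoidal.μ (Over.pullback i) A N ≫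
          (Over.pullback i).map (e.hom ≫ fst B N))
      refine ⟨twist e.symm n y, ?_⟩
      dsimp only at hy ⊢
      have h1 : lift ((Over.pullback i).map y) ((Over.pullback i).map n) ≫ Functor.LaxMonoidal.μ (Over.pullback i) B N =
          lift h ((Over.pullback i).map n) ≫ Functor.LaxMonoidal.μ (Over.pullback i) A N ≫ (Over.pullback i).map e.hom := by
        have h2 : lift ((Over.pullback i).map y) ((Over.pullback i).map n) =
            lift h ((Over.pullback i).map n) ≫ Functor.LaxMonoidal.μ (Over.pullback i) A N ≫ (Over.pullback i).map e.hom ≫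
              Functor.OplaxMonoidal.δ (Over.pullback i) B N := by
          ext1
          · simp [hy]
          · simp [← Functor.map_comp, he]
        rw [h2]
        simp
      simp only [twist, Functor.map_comp]
      rw [← Functor.Monoidal.lift_μ, Iso.symm_hom, Category.assoc, reassoc_of% h1]
      simp [← Functor.map_comp]
  intro Z hZ
  let Z' : Over S := Z ⊗ N
  let p : Z' ⟶ Z := fst Z N
  haveI hZ' : Smooth Z'.hom := by
    show Smooth (pullback.fst Z.hom N.hom ≫ Z.hom)
    infer_instance
  haveI : Surjective p.left := inferInstanceAs (Surjective (pullback.fst Z.hom N.hom))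
  haveI : Smooth p.left := inferInstanceAs (Smooth (pullback.fst Z.hom N.hom))
  refine ⟨fun x y h => ?_, fun h => ?_⟩
  · have h1 : p ≫ x = p ≫ y := (hW hZ' (snd Z N)).1 (by
      simp only [Functor.map_comp]
      exact congrArg (_ ≫ ·) h)
    ext : 1
    exact (cancel_epi p.left).1 (congrArg CommaMorphism.left h1)
  · obtain ⟨y, hy⟩ := (hW hZ' (snd Z N)).2 ((Over.pullback i).map p ≫ h)
    dsimp only at hy
    let P : Over S := Over.mk (pullback.fst p.left p.left ≫ Z'.hom)
    haveI hP : Smooth P.hom := by
      show Smooth (pullback.fst p.left p.left ≫ Z'.hom)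
      infer_instance
    let a : P ⟶ Z' := Over.homMk (pullback.fst p.left p.left) rfl
    let b : P ⟶ Z' := Over.homMk (pullback.snd p.left p.left) (by
      show _ = pullback.fst p.left p.left ≫ Z'.hom
      rw [← Over.w p, ← Category.assoc, ← pullback.condition, Category.assoc, Over.w p])
    have hab : a ≫ y = b ≫ y := (hW hP (a ≫ snd Z N)).1 (by
      simp only [Functor.map_comp, hy, ← Category.assoc]
      congr 1
      rw [← Functor.map_comp, ← Functor.map_comp]
      congr 1
      ext : 1
      exact pullback.condition)
    have hdesc : ∀ {W : Scheme.{u}} (g₁ g₂ : W ⟶ Z'.left), g₁ ≫ p.left = g₂ ≫ p.left → g₁ ≫ y.left = g₂ ≫ y.left := by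
      intro W g₁ g₂ hg
      have h2 := congrArg (fun m => pullback.lift g₁ g₂ hg ≫ m) (congrArg CommaMorphism.left hab)
      simpa [a, b] using h2
    let x₀ := EffectiveEpi.desc p.left y.left hdesc
    have hx₀ : x₀ ≫ A.hom = Z.hom := by
      refine (cancel_epi p.left).1 ?_
      rw [← Category.assoc, EffectiveEpi.fac, Over.w y, Over.w p]
    refine ⟨Over.homMk x₀ hx₀, ?_⟩
    dsimp only
    have hsq : IsPullback (pullback.fst Z'.hom i) ((Over.pullback i).map p).left p.left (pullback.fst Z.hom i) :=
      (IsPullback.of_right (h₁₁ := ((Over.pullback i).map p).left) (h₁₂ := pullback.snd Z.hom i) (v₁₁ := pullback.fst Z'.hom i)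
        (v₁₂ := pullback.fst Z.hom i) (v₁₃ := i) (h₂₁ := p.left) (h₂₂ := Z.hom) (by
          have e1 : ((Over.pullback i).map p).left ≫ pullback.snd Z.hom i = pullback.snd Z'.hom i :=
            Over.w ((Over.pullback i).map p)
          rw [e1, Over.w p]
          exact (IsPullback.of_hasPullback Z'.hom i).flip)
        (pullback_map_fst i p) (IsPullback.of_hasPullback Z.hom i).flip).flip
    haveI : Smooth ((Over.pullback i).map p).left :=
      MorphismProperty.of_isPullback (P := @Smooth) hsq ‹Smooth p.left›
    haveI : Surjective ((Over.pullback i).map p).left :=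
      MorphismProperty.of_isPullback (P := @Surjective) hsq ‹Surjective p.left›
    have h3 : (Over.pullback i).map p ≫ (Over.pullback i).map (Over.homMk x₀ hx₀) = (Over.pullback i).map p ≫ h := by
      rw [← hy, ← Functor.map_comp]
      congr 1
      ext : 1
      exact EffectiveEpi.fac _ _ hdesc
    ext : 1
    exact (cancel_epi ((Over.pullback i).map p).left).1 (congrArg CommaMorphism.left h3)

end Groth.Agent.Neron6
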